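import Groth.Agent.Lib.Cyc.FibLen
import Groth.Agent.Lib.Cyc.SheafLen
import Groth.Agent.Lib.DerivedOX.PullbackStalk
import Groth.Agent.Lib.Modules.SupportOps
import Groth.Agent.Lib.QCoh.Pullback
import Groth.Agent.Lib.Modules.Support
import Mathlib.RingTheory.Flat.FaithfullyFlat.Algebra

/-!
# Stalks of flat pullbacks: lengths, supports, exactness
-/

universe u

open CategoryTheory AlgebraicGeometry IsLocalRing
open scoped TensorProduct

set_option linter.style.haveILetI false

namespace Groth.Agent.Lib.Cyc.FP.Stalk

variable {X Y : Scheme.{u}} (f : X ⟶ Y)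

theorem isCoh_pullback {F : Y.Modules} (hF : Coh.IsCoh F) :
    Coh.IsCoh ((Scheme.Modules.pullback f).obj F) := by
  haveI := hF.1
  haveI := hF.2
  exact ⟨QCoh.Pullback.isQCoh_pullback f F, Modules.SupportOps.isFT_pullback f F⟩

/-- `(f^* F)_x = O_x ⊗ F_{f x}`, as an equality of lengths. -/
theorem length_pullback_stalk [Flat f] (F : Y.Modules) (x : X) :
    Module.length (X.presheaf.stalk x) (((Scheme.Modules.pullback f).obj F).presheaf.stalk x) =
      Module.length (Y.presheaf.stalk (f x)) (F.presheaf.stalk (f x)) * FibLen.fibLen f x := by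
  letI := (f.stalkMap x).hom.toAlgebra
  haveI : IsLocalHom (algebraMap (Y.presheaf.stalk (f x)) (X.presheaf.stalk x)) :=
    inferInstanceAs (IsLocalHom (f.stalkMap x).hom)
  haveI : Module.Flat (Y.presheaf.stalk (f x)) (X.presheaf.stalk x) := Flat.stalkMap f x
  have h : Module.length (X.presheaf.stalk x)
      (X.presheaf.stalk x ⊗[Y.presheaf.stalk (f x)] F.presheaf.stalk (f x)) =
      Module.length (X.presheaf.stalk x) (((Scheme.Modules.pullback f).obj F).presheaf.stalk x) :=
    (asIso ((DerivedOX.PullbackStalk.comparison f x).app F)).toLinearEquiv.length_eq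
  rw [← h, IsLocalRing.length_baseChange]
  rfl

theorem nontrivial_of_pullback [Flat f] (F : Y.Modules) (x : X)
    (h : Nontrivial (((Scheme.Modules.pullback f).obj F).presheaf.stalk x)) :
    Nontrivial (F.presheaf.stalk (f x)) := by
  by_contra hc
  rw [not_nontrivial_iff_subsingleton] at hc
  have h1 := length_pullback_stalk f F x
  rw [Module.length_eq_zero_iff.mpr hc, zero_mul, Module.length_eq_zero_iff] at h1
  exact not_subsingleton _ h1

/-- Flat pullback preserves monomorphisms. -/
theorem mono_pullback [Flat f] {F G : Y.Modules} (u : F ⟶ G) [Mono u] :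
    Mono ((Scheme.Modules.pullback f).map u) := by
  rw [Modules.Stalk.mono_iff_stalk]
  intro x
  letI := (f.stalkMap x).hom.toAlgebra
  haveI : Module.Flat (Y.presheaf.stalk (f x)) (X.presheaf.stalk x) := Flat.stalkMap f x
  have hu := (Modules.Stalk.mono_iff_stalk u).mp inferInstance (f x)
  have hinj : Function.Injective (LinearMap.lTensor (X.presheaf.stalk x)
      (Modules.StalkModule.stalkMapₗ u (f x))) :=
    Module.Flat.lTensor_preserves_injective_linearMap _ ((AddCommGrpCat.mono_iff_injective _).mp hu)
  rw [AddCommGrpCat.mono_iff_injective]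
  have hnat := (DerivedOX.PullbackStalk.comparison f x).naturality u
  have hiso : ∀ M : Y.Modules, Function.Bijective
      ((DerivedOX.PullbackStalk.comparison f x).app M) := fun M =>
    (ConcreteCategory.isIso_iff_bijective _).mp inferInstance
  intro a b hab
  obtain ⟨a', rfl⟩ := (hiso F).2 a
  obtain ⟨b', rfl⟩ := (hiso F).2 b
  have e := fun t => ConcreteCategory.congr_hom hnat t
  have h2 : (DerivedOX.PullbackStalk.comparison f x).app G
      ((Modules.StalkModule.stalkModFunctor Y (f x) ⋙
        ModuleCat.extendScalars.{u, u, u} (f.stalkMap x).hom).map u a') =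
      (DerivedOX.PullbackStalk.comparison f x).app G
      ((Modules.StalkModule.stalkModFunctor Y (f x) ⋙
        ModuleCat.extendScalars.{u, u, u} (f.stalkMap x).hom).map u b') :=
    (e a').trans (hab.trans (e b').symm)
  exact congrArg _ (hinj ((hiso G).1 h2))

end Groth.Agent.Lib.Cyc.FP.Stalk
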