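import Groth.Agent.Lib.Cyc.FP.Main
import Groth.Agent.Lib.Cyc.Retr.Family

/-!
# Flat pullback preserves rational equivalence
-/

universe u

open CategoryTheory CategoryTheory.Limits AlgebraicGeometry

set_option linter.style.haveILetI false

namespace Groth.Agent.Lib.Cyc.FP.Rat

open Groth.Agent.Lib.Cyc

variable {X Y : Scheme.{u}}

/-- The cycle of a coherent module. -/
noncomputable def cycleOf [IsLocallyNoetherian X] {δ : X → ℤ} (k : ℤ) (hδ : Cyc.IsDimFun X δ)
    {F : X.Modules} (hF : Cyc.CohLe δ k F) : AlgebraicCycle X ℤ where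
  toFun := Cyc.sheafFun δ k F
  supportWithinDomain' := Set.subset_univ _
  supportLocallyFiniteWithinDomain' z _ := by
    obtain ⟨U, hz, hfin⟩ := K0.Cycles.finite_support k hδ hF z
    refine ⟨U, U.2.mem_nhds hz, hfin.subset fun x hx => ⟨hx.1, ?_, ?_⟩⟩
    · by_contra hk
      exact hx.2 (if_neg hk)
    · by_contra hn
      have := not_nontrivial_iff_subsingleton.1 hn
      refine hx.2 ?_
      simp only [Cyc.sheafFun, Module.length_eq_zero]
      split_ifs <;> rfl

theorem ratEquivZero_sub [IsLocallyNoetherian X] {δ : X → ℤ} {k : ℤ} (hδ : Cyc.IsDimFun X δ)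
    {P Q : X.Modules} (hP : Cyc.CohLe δ k P) (hQ : Cyc.CohLe δ k Q)
    (h : Cyc.toK0CohQuot δ (k + 1) (k - 1) P = Cyc.toK0CohQuot δ (k + 1) (k - 1) Q)
    (α : AlgebraicCycle X ℤ) (hα : ∀ x, α x = Cyc.sheafFun δ k P x - Cyc.sheafFun δ k Q x) :
    Cyc.RatEquivZero δ k α := by
  have h' := Retr.Main.ratEquiv_of_cl_eq hδ hP hQ h (cycleOf k hδ hP) (cycleOf k hδ hQ) rfl rfl
  have e : α = cycleOf k hδ hP - cycleOf k hδ hQ := Function.locallyFinsuppWithin.ext hα
  rw [e]
  exact h'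

variable (f : X ⟶ Y) [Flat f] {δX : X → ℤ} {δY : Y → ℤ}

theorem pullFun_sub (c : ℤ) (a b : Y → ℤ) (x : X) :
    Cyc.pullFun f δX δY c (fun y => a y - b y) x =
      Cyc.pullFun f δX δY c a x - Cyc.pullFun f δX δY c b x := by
  simp only [FibLen.pullFun_apply]
  split_ifs <;> ring

theorem ratEquiv_pull [IsLocallyNoetherian X] [IsLocallyNoetherian Y] (hδX : Cyc.IsDimFun X δX)
    (hδY : Cyc.IsDimFun Y δY) {c : ℤ} (hc : Main.Shift f δX δY c) {k : ℤ}
    {α β : AlgebraicCycle Y ℤ} (h : Cyc.RatEquiv δY k α β) (α' β' : AlgebraicCycle X ℤ)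
    (hα' : ⇑α' = Cyc.pullFun f δX δY c ⇑α) (hβ' : ⇑β' = Cyc.pullFun f δX δY c ⇑β) :
    Cyc.RatEquiv δX (k + c) α' β' := by
  obtain ⟨J, O, u, v, mu, mv, hJ, hO, hu, hv, huv⟩ := Retr.Family.exists_witness hδY h
  let P := Scheme.Modules.pullback f
  haveI : Mono (P.map u) := Stalk.mono_pullback f u
  haveI : Mono (P.map v) := Stalk.mono_pullback f v
  haveI : PreservesColimitsOfSize.{0, 0} P :=
    (Scheme.Modules.pullbackPushforwardAdjunction f).leftAdjoint_preservesColimits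
  have hO' : Cyc.CohLe δX (k + c + 1) (P.obj O) :=
    ⟨Stalk.isCoh_pullback f hO.1, fun x hx =>
      (Main.delta_le_of_supp f hδX hc O hO.2 x hx).trans (by omega)⟩
  have hJ' : Coh.IsCoh (P.obj J) := Stalk.isCoh_pullback f hJ
  have hle : ∀ {M : Y.Modules}, Cyc.CohLe δY k M → Cyc.CohLe δX (k + c) (P.obj M) := fun {M} hM =>
    ⟨Stalk.isCoh_pullback f hM.1, fun x hx => Main.delta_le_of_supp f hδX hc M hM.2 x hx⟩
  have hcl := Retr.Family.cl_eq (δ := δX) (k := k + c) (P.map u) (P.map v) hJ' hO'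
  have hu' := hle hu
  have hv' := hle hv
  have hcu : Coh.IsCoh (cokernel (P.map u)) := CohBasics.Closure.isCoh_cokernel _ hJ'.1 hO'.1
  have hcv : Coh.IsCoh (cokernel (P.map v)) := CohBasics.Closure.isCoh_cokernel _ hJ'.1 hO'.1
  rw [← Retr.K0Tools.cl_iso (PreservesCokernel.iso P u)
      (Retr.K0Tools.cohLe_mono (by omega) hu') hcu,
    ← Retr.K0Tools.cl_iso (PreservesCokernel.iso P v)
      (Retr.K0Tools.cohLe_mono (by omega) hv') hcv] at hcl
  refine ratEquivZero_sub hδX hu' hv' hcl (α' - β') fun x => ?_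
  have e : (fun y => α y - β y) = fun y => Cyc.sheafFun δY k (cokernel u) y -
      Cyc.sheafFun δY k (cokernel v) y := funext huv
  rw [Function.locallyFinsuppWithin.coe_sub, Pi.sub_apply, hα', hβ', ← pullFun_sub, e, pullFun_sub,
    Main.pullFun_sheafFun f hδX hc k _ hu.2, Main.pullFun_sheafFun f hδX hc k _ hv.2]

end Groth.Agent.Lib.Cyc.FP.Rat
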