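import Groth.Agent.Lib.Cyc.FP.Stalk
import Groth.Agent.Lib.Cyc.FlatDim

/-!
# Flat pullback of cycles of coherent modules
-/

universe u

open CategoryTheory AlgebraicGeometry

namespace Groth.Agent.Lib.Cyc.FP.Main

variable {X Y : Scheme.{u}} (f : X ⟶ Y) [Flat f] {δX : X → ℤ} {δY : Y → ℤ}

/-- `δ_X(x) = δ_Y(f x) + c` at generic points of fibres. -/
def Shift (δX : X → ℤ) (δY : Y → ℤ) (c : ℤ) : Prop :=
  ∀ x : X, FibLen.IsMaxFib f x → δX x = δY (f x) + c

omit [Flat f] in
theorem delta_le (hδX : Cyc.IsDimFun X δX) {c : ℤ} (hc : Shift f δX δY c) (x : X) :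
    δX x ≤ δY (f x) + c := by
  obtain ⟨ξ, hξ, hfξ, hmax⟩ := FlatDim.exists_isMaxFib_specializes f x
  rw [← hfξ, ← hc ξ hmax]
  exact DimFun.le_of_specializes hδX hξ

theorem delta_le_of_supp (hδX : Cyc.IsDimFun X δX) {c : ℤ} (hc : Shift f δX δY c) {k : ℤ}
    (F : Y.Modules) (hdim : ∀ y : Y, Nontrivial (F.presheaf.stalk y) → δY y ≤ k) (x : X)
    (h : Nontrivial (((Scheme.Modules.pullback f).obj F).presheaf.stalk x)) :
    δX x ≤ k + c :=
  (delta_le f hδX hc x).trans (Int.add_le_add_right (hdim _ (Stalk.nontrivial_of_pullback f F x h)) c)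

theorem pullFun_sheafFun (hδX : Cyc.IsDimFun X δX) {c : ℤ} (hc : Shift f δX δY c) (k : ℤ)
    (F : Y.Modules) (hdim : ∀ y : Y, Nontrivial (F.presheaf.stalk y) → δY y ≤ k) :
    Cyc.pullFun f δX δY c (Cyc.sheafFun δY k F) =
      Cyc.sheafFun δX (k + c) ((Scheme.Modules.pullback f).obj F) := by
  funext x
  rw [FibLen.pullFun_apply]
  unfold Cyc.sheafFun
  by_cases hs : δX x = δY (f x) + c
  · rw [if_pos hs]
    by_cases hk : δY (f x) = k
    · rw [if_pos hk, if_pos (by omega), Stalk.length_pullback_stalk, ENat.toNat_mul, Nat.cast_mul]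
    · rw [if_neg hk, if_neg (by omega), zero_mul]
  · rw [if_neg hs]
    by_cases hk : δX x = k + c
    · rw [if_pos hk, Stalk.length_pullback_stalk]
      suffices Module.length (Y.presheaf.stalk (f x)) (F.presheaf.stalk (f x)) = 0 by
        rw [this, zero_mul]
        rfl
      refine Module.length_eq_zero_iff.mpr ?_
      by_contra hn
      rw [not_subsingleton_iff_nontrivial] at hn
      have h1 := hdim _ hn
      have h2 := delta_le f hδX hc x
      omega
    · rw [if_neg hk]

/-- The shift of a flat morphism of relative dimension `r`. -/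
theorem shift_of_hasRelDim [LocallyOfFiniteType f] {r : ℕ} (hr : Cyc.HasRelDim f r)
    (hδ : Cyc.DeltaCompat f δX δY) : Shift f δX δY r :=
  fun x hx => FieldDim.delta_eq_of_hasRelDim f hr hδ x hx

end Groth.Agent.Lib.Cyc.FP.Main
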