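import Groth.Agent.Lib.Cyc.FP.Prime

/-!
# Flat pullback of a principal divisor, arbitrary relative dimension
-/

set_option autoImplicit false
set_option linter.style.haveILetI false
universe u

open AlgebraicGeometry CategoryTheory IsLocalRing

namespace Groth.Agent.Lib.Cyc.FP.DivShift

open Groth.Agent.Lib Groth.Agent.Lib.Cyc Groth.Agent.Lib.Cyc.DimFun Groth.Agent.Lib.Cyc.FP.Prime

variable {X Y : Scheme.{u}} (f : X ⟶ Y) [Flat f] [IsLocallyNoetherian X] [IsLocallyNoetherian Y]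

variable {δX : X → ℤ} {δY : Y → ℤ}

/-- `f^* div(g) = div(f^* g)`. -/
theorem pullFun_divFun_shift (hX : Cyc.IsDimFun X δX) (hY : Cyc.IsDimFun Y δY)
    {r : ℤ} (hc : Main.Shift f δX δY r) (ξ' : X)
    (hP : (maximalIdeal (Y.presheaf.stalk (f ξ'))).map (f.stalkMap ξ').hom = maximalIdeal _)
    (hu : ∀ w, f w = f ξ' → FibLen.IsMaxFib f w → w = ξ') (g : Y.residueField (f ξ')) (hg : g ≠ 0)
    (x : X) :
    Cyc.pullFun f δX δY r (Cyc.divFun δY (f ξ') g) x =
      Cyc.divFun δX ξ' (f.residueFieldMap ξ' g) x := by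
  have hmax' : FibLen.IsMaxFib f ξ' := by
    obtain ⟨z, hz, hfz, hzmax⟩ := FlatDim.exists_isMaxFib_specializes f ξ'
    obtain rfl := hu z hfz hzmax
    exact hzmax
  have hξ : δX ξ' = δY (f ξ') + r := hc ξ' hmax'
  have hgen : ∀ w, f w = f ξ' → ξ' ⤳ w := fun w hw => by
    obtain ⟨z, hz, hfz, hzmax⟩ := FlatDim.exists_isMaxFib_specializes f w
    obtain rfl := hu z (hfz.trans hw) hzmax
    exact hz
  have hg' : f.residueFieldMap ξ' g ≠ 0 := fun h0 =>
    hg ((f.residueFieldMap ξ').hom.injective (h0.trans (map_zero _).symm))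
  have hle := Main.delta_le f hX hc x
  rw [FibLen.pullFun_apply]
  by_cases hB : ξ' ⤳ x ∧ δX x + 1 = δX ξ'
  swap
  · rw [Cyc.divFun, Cyc.divFun, dif_neg hB]
    by_cases hs : δX x = δY (f x) + r
    · rw [if_pos hs]
      by_cases hA : f ξ' ⤳ f x ∧ δY (f x) + 1 = δY (f ξ')
      · exfalso
        obtain ⟨w, hw, hfw⟩ := Flat.generalizingMap f hA.1
        exact hB ⟨(hgen w hfw).trans hw, by omega⟩
      · rw [dif_neg hA, zero_mul]
    · rw [if_neg hs]
  obtain ⟨hsp, hd⟩ := hB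
  rw [show Cyc.divFun δX ξ' (f.residueFieldMap ξ' g) x = Cyc.ordAt x ξ' hsp (f.residueFieldMap ξ' g)
    from dif_pos ⟨hsp, hd⟩]
  have hsp' : f ξ' ⤳ f x := hsp.map f.continuous
  by_cases hfx : f x = f ξ'
  · obtain ⟨a, b, hb, hab⟩ := Ord.exists_specMap_fraction (f x) (f ξ') hsp' g
    have ha : Cyc.specMap (f x) (f ξ') hsp' a ≠ 0 := hab ▸ mul_ne_zero hg hb
    have hunit : ∀ c, Cyc.specMap (f x) (f ξ') hsp' c ≠ 0 → IsUnit c := fun c hc' => by
      by_contra hn
      refine hc' ?_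
      have hcl : c ∈ (closedPoint (Y.presheaf.stalk (f x))).asIdeal := (mem_maximalIdeal c).2 hn
      rw [show closedPoint (Y.presheaf.stalk (f x)) = genPrime (f x) (f ξ') hsp' from
        fromSpecStalk_injective (f x) (by
          rw [Scheme.fromSpecStalk_closedPoint, fromSpecStalk_genPrime]; exact hfx)] at hcl
      exact RingHom.mem_ker.1 hcl
    have e2 := Ord.ordAt_mul hX x ξ' hsp hd.ge _ (f.residueFieldMap ξ' (Cyc.specMap (f x) (f ξ') hsp' b))
      hg' (fun h0 => hb ((f.residueFieldMap ξ').hom.injective (h0.trans (map_zero _).symm)))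
    rw [← map_mul, hab, ← InducedDimFun.specMap_stalkMap f ξ' x hsp a,
      ← InducedDimFun.specMap_stalkMap f ξ' x hsp b,
      Ord.ordAt_specMap_of_isUnit hX x ξ' hsp hd.ge _ ((hunit a ha).map (f.stalkMap x).hom),
      Ord.ordAt_specMap_of_isUnit hX x ξ' hsp hd.ge _ ((hunit b hb).map (f.stalkMap x).hom)] at e2
    rw [Cyc.divFun, dif_neg fun hA => absurd hA.2 (by rw [hfx]; omega)]
    simp only [zero_mul, ite_self]
    omega
  · have h1 := DimFun.lt_of_specializes hY hsp' (fun e => hfx e.symm)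
    have hs : δX x = δY (f x) + r := by omega
    have hdY : δY (f x) + 1 = δY (f ξ') := by omega
    rw [if_pos hs, Cyc.divFun, dif_pos ⟨hsp', hdY⟩]
    have hker := ker_specMap_eq f hsp hP fun w hw hwx => by
      by_contra hne
      have h2 := DimFun.lt_of_specializes hX (hgen w hw) (Ne.symm hne)
      have h3 : w ≠ x := fun e => hfx (e ▸ hw)
      have h4 := DimFun.lt_of_specializes hX hwx h3
      omega
    have key : ∀ c, Cyc.specMap (f x) (f ξ') hsp' c ≠ 0 →
        Cyc.ordAt x ξ' hsp (f.residueFieldMap ξ' (Cyc.specMap (f x) (f ξ') hsp' c)) =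
          Cyc.ordAt (f x) (f ξ') hsp' (Cyc.specMap (f x) (f ξ') hsp' c) *
            ((FibLen.fibLen f x).toNat : ℤ) := by
      intro c hc'
      rw [← InducedDimFun.specMap_stalkMap f ξ' x hsp c, Ord.ordAt_specMap hX x ξ' hsp hd.ge _
        (fun h0 => hc' ((f.residueFieldMap ξ').hom.injective
          ((InducedDimFun.specMap_stalkMap f ξ' x hsp c).symm.trans (h0.trans (map_zero _).symm)))),
        Ord.ordAt_specMap hY (f x) (f ξ') hsp' hdY.ge c hc', ord_mk, ord_mk, hker,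
        ← Nat.cast_mul, ← ENat.toNat_mul, ← length_quotient_map, Ideal.map_sup, Ideal.map_span,
        Set.image_singleton]
    obtain ⟨a, b, hb, hab⟩ := Ord.exists_specMap_fraction (f x) (f ξ') hsp' g
    have ha : Cyc.specMap (f x) (f ξ') hsp' a ≠ 0 := hab ▸ mul_ne_zero hg hb
    have e1 := Ord.ordAt_mul hY (f x) (f ξ') hsp' hdY.ge g _ hg hb
    have e2 := Ord.ordAt_mul hX x ξ' hsp hd.ge _ (f.residueFieldMap ξ' (Cyc.specMap (f x) (f ξ') hsp' b))
      hg' (fun h0 => hb ((f.residueFieldMap ξ').hom.injective (h0.trans (map_zero _).symm)))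
    rw [hab] at e1
    rw [← map_mul, hab, key a ha, key b hb, e1, add_mul] at e2
    linarith

end Groth.Agent.Lib.Cyc.FP.DivShift
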