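import Groth.Agent.Lib.Cyc.FP.Main
import Groth.Agent.Lib.Cyc.InducedDimFun
import Groth.Agent.Lib.Cyc.Ord
import Groth.Agent.Lib.CartierDescent.Stalk

/-!
# Flat pullback of a principal divisor whose support has prime inverse image
-/

set_option autoImplicit false
set_option linter.style.haveILetI false
universe u

open AlgebraicGeometry CategoryTheory IsLocalRing
open scoped TensorProduct

namespace Groth.Agent.Lib.Cyc.FP.Prime

open Groth.Agent.Lib Groth.Agent.Lib.Cyc Groth.Agent.Lib.Cyc.DimFun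

variable {X Y : Scheme.{u}}

theorem ord_mk {R : Type u} [CommRing R] (I : Ideal R) (a : R) :
    Ring.ord (R ⧸ I) (Ideal.Quotient.mk I a) = Module.length R (R ⧸ (I ⊔ Ideal.span {a})) := by
  rw [← (DoubleQuot.quotQuotEquivQuotSupₐ R I (Ideal.span {a})).toLinearEquiv.length_eq]
  have e : (Ideal.span {a}).map (Ideal.Quotient.mkₐ R I) = Ideal.span {Ideal.Quotient.mk I a} := by
    rw [Ideal.map_span, Set.image_singleton]
    rfl
  rw [Ring.ord, (Ideal.quotientEquivAlgOfEq R e).toLinearEquiv.length_eq]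
  exact (Module.length_eq_of_surjective Ideal.Quotient.mk_surjective).symm

variable (f : X ⟶ Y) [Flat f] [IsLocallyNoetherian X] [IsLocallyNoetherian Y]

theorem length_quotient_map (x : X) (I : Ideal (Y.presheaf.stalk (f x))) :
    Module.length (X.presheaf.stalk x) (X.presheaf.stalk x ⧸ I.map (f.stalkMap x).hom) =
      Module.length (Y.presheaf.stalk (f x)) (Y.presheaf.stalk (f x) ⧸ I) * FibLen.fibLen f x := by
  letI := (f.stalkMap x).hom.toAlgebra
  haveI : IsLocalHom (algebraMap (Y.presheaf.stalk (f x)) (X.presheaf.stalk x)) :=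
    inferInstanceAs (IsLocalHom (f.stalkMap x).hom)
  haveI : Module.Flat (Y.presheaf.stalk (f x)) (X.presheaf.stalk x) := Flat.stalkMap f x
  have h : Module.length (X.presheaf.stalk x)
      (X.presheaf.stalk x ⧸ I.map (algebraMap (Y.presheaf.stalk (f x)) (X.presheaf.stalk x))) = _ :=
    (Algebra.TensorProduct.quotIdealMapEquivTensorQuot (X.presheaf.stalk x) I).toLinearEquiv.length_eq
  refine h.trans ?_
  rw [IsLocalRing.length_baseChange]
  rfl

/-- If `ξ'` is the only point over `ξ` generalising `x` and the fibre is reduced at `ξ'`, the prime of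
`ξ'` is extended from the prime of `ξ`. -/
theorem ker_specMap_eq {ξ' x : X} (h : ξ' ⤳ x)
    (hP : (maximalIdeal (Y.presheaf.stalk (f ξ'))).map (f.stalkMap ξ').hom = maximalIdeal _)
    (huniq : ∀ w : X, f w = f ξ' → w ⤳ x → w = ξ') :
    RingHom.ker (Cyc.specMap x ξ' h) =
      (RingHom.ker (Cyc.specMap (f x) (f ξ') (h.map f.continuous))).map (f.stalkMap x).hom := by
  set 𝔭 := RingHom.ker (Cyc.specMap (f x) (f ξ') (h.map f.continuous)) with h𝔭
  set 𝔮 := RingHom.ker (Cyc.specMap x ξ' h) with h𝔮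
  set K := 𝔭.map (f.stalkMap x).hom with hK
  refine le_antisymm (fun z hz => ?_) (Ideal.map_le_iff_le_comap.2 fun a ha => ?_)
  swap
  · rw [Ideal.mem_comap, h𝔮, RingHom.mem_ker]
    exact (InducedDimFun.specMap_stalkMap f ξ' x h a).trans
      (by rw [RingHom.mem_ker.1 ha]; exact map_zero _)
  -- localisation at `ξ'`
  haveI hq : 𝔮.IsPrime := (genPrime x ξ' h).isPrime
  letI := (X.presheaf.stalkSpecializes h).hom.toAlgebra
  haveI := CartierDescent.isLocalization_stalkSpecializes h
  letI := (Y.presheaf.stalkSpecializes (h.map f.continuous)).hom.toAlgebra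
  haveI := CartierDescent.isLocalization_stalkSpecializes (X := Y) (h.map f.continuous)
  have hprime : ∀ {Z : Scheme.{u}} [IsLocallyNoetherian Z] {a b : Z} (hab : a ⤳ b),
      CDivInt.Factorial.primeOf hab = RingHom.ker (Cyc.specMap b a hab) := by
    intro Z _ a b hab
    ext r
    exact (IsLocalRing.residue_eq_zero_iff (R := Z.presheaf.stalk a) _).symm
  have hm : maximalIdeal (X.presheaf.stalk ξ') =
      K.map (algebraMap (X.presheaf.stalk x) (X.presheaf.stalk ξ')) := by
    rw [← hP, ← IsLocalization.AtPrime.map_eq_maximalIdeal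
      (CDivInt.Factorial.primeOf (h.map f.continuous)) (Y.presheaf.stalk (f ξ')),
      hprime, ← h𝔭, hK, Ideal.map_map, Ideal.map_map]
    congr 1
    exact congrArg CommRingCat.Hom.hom (f.stalkSpecializes_stalkMap ξ' x h)
  have hzm : algebraMap (X.presheaf.stalk x) (X.presheaf.stalk ξ') z ∈ maximalIdeal _ := by
    rw [h𝔮, RingHom.mem_ker] at hz
    exact (IsLocalRing.residue_eq_zero_iff _).1 hz
  rw [hm, IsLocalization.mem_map_algebraMap_iff
    (CDivInt.Factorial.primeOf h).primeCompl] at hzm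
  obtain ⟨⟨⟨a, ha⟩, ⟨s, hs⟩⟩, hzs⟩ := hzm
  obtain ⟨⟨c, hc⟩, hcs⟩ := IsLocalization.exists_of_eq
    (M := (CDivInt.Factorial.primeOf h).primeCompl) (S := X.presheaf.stalk ξ')
    (show algebraMap (X.presheaf.stalk x) (X.presheaf.stalk ξ') (z * s) =
      algebraMap (X.presheaf.stalk x) (X.presheaf.stalk ξ') a by rw [map_mul]; exact hzs)
  have hcz : (c * s) * z ∈ K := by
    rw [show c * s * z = c * (z * s) by ring, hcs]
    exact Ideal.mul_mem_left _ _ ha
  have hcs' : c * s ∉ 𝔮 := fun hmem => (hq.mem_or_mem hmem).elim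
    (fun h1 => hc (by rw [hprime]; exact h1)) (fun h1 => hs (by rw [hprime]; exact h1))
  -- a denominator from the base
  haveI h𝔭p : 𝔭.IsPrime := (genPrime (f x) (f ξ') (h.map f.continuous)).isPrime
  obtain ⟨r, hr, hrmem⟩ : ∃ r ∉ 𝔭, f.stalkMap x r ∈ K ⊔ Ideal.span {c * s} := by
    by_contra! H
    obtain ⟨P, hPp, hle, hdis⟩ := Ideal.exists_le_prime_disjoint (K ⊔ Ideal.span {c * s})
      (𝔭.primeCompl.map (f.stalkMap x).hom) (Set.disjoint_left.2 fun b hb hb' => by
        obtain ⟨r, hr, rfl⟩ := hb'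
        exact H r hr hb)
    let p : PrimeSpectrum (X.presheaf.stalk x) := ⟨P, hPp⟩
    have hcomap : PrimeSpectrum.comap (f.stalkMap x).hom p =
        genPrime (f x) (f ξ') (h.map f.continuous) := by
      refine PrimeSpectrum.ext (le_antisymm (fun r hr => ?_) ?_)
      · by_contra hn
        exact Set.disjoint_left.1 hdis hr ⟨r, hn, rfl⟩
      · exact Ideal.map_le_iff_le_comap.1 ((le_sup_left (b := Ideal.span {c * s})).trans hle)
    have hw : f (X.fromSpecStalk x p) = f ξ' := by
      refine Eq.trans ?_ (fromSpecStalk_genPrime (f x) (f ξ') (h.map f.continuous))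
      rw [← hcomap]
      exact (Scheme.Hom.comp_apply _ _ _).symm.trans ((congrArg (fun q => q p)
        (Scheme.SpecMap_stalkMap_fromSpecStalk f (x := x)).symm).trans rfl)
    have he := huniq _ hw (fromSpecStalk_specializes_self x p)
    have hp : p = genPrime x ξ' h := fromSpecStalk_injective x (he.trans (fromSpecStalk_genPrime x ξ' h).symm)
    exact hcs' ((congrArg PrimeSpectrum.asIdeal hp).le
      (hle (Ideal.mem_sup_right (Ideal.mem_span_singleton_self _))))
  have hrz : f.stalkMap x r * z ∈ K := by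
    obtain ⟨k₀, hk₀, w, hw, hkw⟩ := Submodule.mem_sup.1 hrmem
    obtain ⟨t, rfl⟩ := Ideal.mem_span_singleton'.1 hw
    rw [← hkw, add_mul, mul_assoc]
    exact K.add_mem (K.mul_mem_right _ hk₀) (K.mul_mem_left _ hcz)
  -- flatness
  letI := (f.stalkMap x).hom.toAlgebra
  haveI : Module.Flat (Y.presheaf.stalk (f x)) (X.presheaf.stalk x) := Flat.stalkMap f x
  have hreg : IsSMulRegular (Y.presheaf.stalk (f x) ⧸ 𝔭) r :=
    (isSMulRegular_quotient_iff_mem_of_smul_mem _ _).2 fun y hy =>
      (h𝔭p.mem_or_mem hy).resolve_left hr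
  have hreg' := IsSMulRegular.lTensor (X.presheaf.stalk x) hreg
  have hreg'' : IsSMulRegular (X.presheaf.stalk x ⧸
      𝔭.map (algebraMap (Y.presheaf.stalk (f x)) (X.presheaf.stalk x))) r :=
    (LinearEquiv.isSMulRegular_congr
      ((Algebra.TensorProduct.quotIdealMapEquivTensorQuot (X.presheaf.stalk x) 𝔭).toLinearEquiv.restrictScalars
        (Y.presheaf.stalk (f x))) r).2 hreg'
  refine Ideal.Quotient.eq_zero_iff_mem.1 (hreg'' ?_)
  show r • (Ideal.Quotient.mk _ z) = r • (0 : X.presheaf.stalk x ⧸ _)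
  rw [smul_zero, Algebra.smul_def, IsScalarTower.algebraMap_apply (Y.presheaf.stalk (f x))
    (X.presheaf.stalk x), Ideal.Quotient.algebraMap_eq, ← map_mul]
  exact Ideal.Quotient.eq_zero_iff_mem.2 hrz

variable {δX : X → ℤ} {δY : Y → ℤ}

/-- `f^* div(g) = div(f^* g)`. -/
theorem pullFun_divFun (hX : Cyc.IsDimFun X δX) (hY : Cyc.IsDimFun Y δY)
    (hc : Main.Shift f δX δY 0) (ξ' : X)
    (hP : (maximalIdeal (Y.presheaf.stalk (f ξ'))).map (f.stalkMap ξ').hom = maximalIdeal _)
    (hu : ∀ w, f w = f ξ' → FibLen.IsMaxFib f w → w = ξ') (g : Y.residueField (f ξ')) (hg : g ≠ 0)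
    (x : X) :
    Cyc.pullFun f δX δY 0 (Cyc.divFun δY (f ξ') g) x =
      Cyc.divFun δX ξ' (f.residueFieldMap ξ' g) x := by
  have hmax' : FibLen.IsMaxFib f ξ' := by
    obtain ⟨z, hz, hfz, hzmax⟩ := FlatDim.exists_isMaxFib_specializes f ξ'
    obtain rfl := hu z hfz hzmax
    exact hzmax
  have hξ : δX ξ' = δY (f ξ') := (hc ξ' hmax').trans (add_zero _)
  have hgen : ∀ w, f w = f ξ' → ξ' ⤳ w := fun w hw => by
    obtain ⟨z, hz, hfz, hzmax⟩ := FlatDim.exists_isMaxFib_specializes f w
    obtain rfl := hu z (hfz.trans hw) hzmax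
    exact hz
  have hg' : f.residueFieldMap ξ' g ≠ 0 := fun h0 =>
    hg ((f.residueFieldMap ξ').hom.injective (h0.trans (map_zero _).symm))
  have hle := Main.delta_le f hX hc x
  rw [FibLen.pullFun_apply]
  by_cases hB : ξ' ⤳ x ∧ δX x + 1 = δX ξ'
  swap
  · rw [Cyc.divFun, Cyc.divFun, dif_neg hB]
    by_cases hs : δX x = δY (f x) + 0
    · rw [if_pos hs]
      by_cases hA : f ξ' ⤳ f x ∧ δY (f x) + 1 = δY (f ξ')
      · exfalso
        obtain ⟨w, hw, hfw⟩ := Flat.generalizingMap f hA.1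
        exact hB ⟨(hgen w hfw).trans hw, by omega⟩
      · rw [dif_neg hA, zero_mul]
    · rw [if_neg hs]
  obtain ⟨hsp, hd⟩ := hB
  rw [show Cyc.divFun δX ξ' (f.residueFieldMap ξ' g) x = Cyc.ordAt x ξ' hsp (f.residueFieldMap ξ' g)
    from dif_pos ⟨hsp, hd⟩]
  have hsp' : f ξ' ⤳ f x := hsp.map f.continuous
  by_cases hfx : f x = f ξ'
  · obtain ⟨a, b, hb, hab⟩ := Ord.exists_specMap_fraction (f x) (f ξ') hsp' g
    have ha : Cyc.specMap (f x) (f ξ') hsp' a ≠ 0 := hab ▸ mul_ne_zero hg hb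
    have hunit : ∀ c, Cyc.specMap (f x) (f ξ') hsp' c ≠ 0 → IsUnit c := fun c hc' => by
      by_contra hn
      refine hc' ?_
      have hcl : c ∈ (closedPoint (Y.presheaf.stalk (f x))).asIdeal := (mem_maximalIdeal c).2 hn
      rw [show closedPoint (Y.presheaf.stalk (f x)) = genPrime (f x) (f ξ') hsp' from
        fromSpecStalk_injective (f x) (by
          rw [Scheme.fromSpecStalk_closedPoint, fromSpecStalk_genPrime]; exact hfx)] at hcl
      exact RingHom.mem_ker.1 hcl
    have e2 := Ord.ordAt_mul hX x ξ' hsp hd.ge _ (f.residueFieldMap ξ' (Cyc.specMap (f x) (f ξ') hsp' b))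
      hg' (fun h0 => hb ((f.residueFieldMap ξ').hom.injective (h0.trans (map_zero _).symm)))
    rw [← map_mul, hab, ← InducedDimFun.specMap_stalkMap f ξ' x hsp a,
      ← InducedDimFun.specMap_stalkMap f ξ' x hsp b,
      Ord.ordAt_specMap_of_isUnit hX x ξ' hsp hd.ge _ ((hunit a ha).map (f.stalkMap x).hom),
      Ord.ordAt_specMap_of_isUnit hX x ξ' hsp hd.ge _ ((hunit b hb).map (f.stalkMap x).hom)] at e2
    rw [Cyc.divFun, dif_neg fun hA => absurd hA.2 (by rw [hfx]; omega)]
    simp only [zero_mul, ite_self]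
    omega
  · have h1 := DimFun.lt_of_specializes hY hsp' (fun e => hfx e.symm)
    have hs : δX x = δY (f x) + 0 := by omega
    have hdY : δY (f x) + 1 = δY (f ξ') := by omega
    rw [if_pos hs, Cyc.divFun, dif_pos ⟨hsp', hdY⟩]
    have hker := ker_specMap_eq f hsp hP fun w hw hwx => by
      by_contra hne
      have h2 := DimFun.lt_of_specializes hX (hgen w hw) (Ne.symm hne)
      have h3 : w ≠ x := fun e => hfx (e ▸ hw)
      have h4 := DimFun.lt_of_specializes hX hwx h3
      omega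
    have key : ∀ c, Cyc.specMap (f x) (f ξ') hsp' c ≠ 0 →
        Cyc.ordAt x ξ' hsp (f.residueFieldMap ξ' (Cyc.specMap (f x) (f ξ') hsp' c)) =
          Cyc.ordAt (f x) (f ξ') hsp' (Cyc.specMap (f x) (f ξ') hsp' c) *
            ((FibLen.fibLen f x).toNat : ℤ) := by
      intro c hc'
      rw [← InducedDimFun.specMap_stalkMap f ξ' x hsp c, Ord.ordAt_specMap hX x ξ' hsp hd.ge _
        (fun h0 => hc' ((f.residueFieldMap ξ').hom.injective
          ((InducedDimFun.specMap_stalkMap f ξ' x hsp c).symm.trans (h0.trans (map_zero _).symm)))),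
        Ord.ordAt_specMap hY (f x) (f ξ') hsp' hdY.ge c hc', ord_mk, ord_mk, hker,
        ← Nat.cast_mul, ← ENat.toNat_mul, ← length_quotient_map, Ideal.map_sup, Ideal.map_span,
        Set.image_singleton]
    obtain ⟨a, b, hb, hab⟩ := Ord.exists_specMap_fraction (f x) (f ξ') hsp' g
    have ha : Cyc.specMap (f x) (f ξ') hsp' a ≠ 0 := hab ▸ mul_ne_zero hg hb
    have e1 := Ord.ordAt_mul hY (f x) (f ξ') hsp' hdY.ge g _ hg hb
    have e2 := Ord.ordAt_mul hX x ξ' hsp hd.ge _ (f.residueFieldMap ξ' (Cyc.specMap (f x) (f ξ') hsp' b))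
      hg' (fun h0 => hb ((f.residueFieldMap ξ').hom.injective (h0.trans (map_zero _).symm)))
    rw [hab] at e1
    rw [← map_mul, hab, key a ha, key b hb, e1, add_mul] at e2
    linarith

end Groth.Agent.Lib.Cyc.FP.Prime
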